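import Groth.Agent.AbSch.K630.Dvr
import Groth.Agent.AbSch.K630.Special
import Groth.Agent.AbSch.K630.Fpqc
import Groth.Agent.AbSch.K595.Chart
import Groth.Agent.AbSch.K472.Res
import Groth.Agent.S4514

/-!
# `n`-splittings over a noetherian affine base from the complete local case
-/

set_option autoImplicit false
universe u
open CategoryTheory CategoryTheory.Limits MonoidalCategory CartesianMonoidalCategory MonObj AlgebraicGeometry Opposite
open Groth.Agent.Etdl.H432.Sec K452.HomPts K771.HomEv K630.AbExt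

noncomputable section

namespace K666.LocNoeth

/-- Flat local extension which is complete noetherian local with algebraically closed residue field. -/
theorem exists_complete (R : Type u) [CommRing R] [IsLocalRing R] [IsNoetherianRing R] :
    ∃ (B : Type u) (_ : CommRing B) (_ : IsLocalRing B) (_ : IsNoetherianRing B) (_ : Algebra R B)
      (_ : IsLocalHom (algebraMap R B)), IsAdicComplete (IsLocalRing.maximalIdeal B) B ∧ Module.Flat R B ∧
        IsAlgClosed (IsLocalRing.ResidueField B) := by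
  let L := AlgebraicClosure (IsLocalRing.ResidueField R)
  have h1 : IsRegularLocalRing L := inferInstance
  have h2 : IsAdicComplete (IsLocalRing.maximalIdeal L) L := by
    rw [IsLocalRing.maximalIdeal_eq_bot]
    infer_instance
  obtain ⟨B, i1, i2, i3, i4, i5, h3, h4, ⟨e⟩⟩ := Groth.Agent.S4514.result (A := R) L
  refine ⟨B, i1, i2, i3, i4, i5, h3, h4, ?_⟩
  let g : B →+* L := (e : _ →+* L).comp
    (Algebra.TensorProduct.includeRight : B →ₐ[R] TensorProduct R (IsLocalRing.ResidueField R) B).toRingHom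
  have hg : Function.Surjective g := by
    refine e.surjective.comp ?_
    exact Algebra.TensorProduct.includeRight_surjective _ IsLocalRing.residue_surjective
  have hk : RingHom.ker g = IsLocalRing.maximalIdeal B := by
    have := RingHom.ker_isMaximal_of_surjective g hg
    exact IsLocalRing.eq_maximalIdeal this
  let e' : L ≃+* IsLocalRing.ResidueField B :=
    ((Ideal.quotEquivOfEq hk.symm).trans (RingHom.quotientKerEquivOfSurjective hg)).symm
  exact IsAlgClosed.of_ringEquiv _ _ e'

/-- `Spec B` over `Spec Λ`. -/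
abbrev sp (Λ B : Type u) [CommRing Λ] [CommRing B] [Algebra Λ B] : Over (Spec (CommRingCat.of Λ)) :=
  Over.mk (Spec.map (CommRingCat.ofHom (algebraMap Λ B)))

/-- The map `Spec B ⟶ Spec C` over `Spec Λ`. -/
def spMap (Λ C B : Type u) [CommRing Λ] [CommRing B] [CommRing C] [Algebra Λ B] [Algebra Λ C] [Algebra C B]
    [IsScalarTower Λ C B] : sp Λ B ⟶ sp Λ C :=
  Over.homMk (Spec.map (CommRingCat.ofHom (algebraMap C B))) (by
    change Spec.map _ ≫ Spec.map _ = Spec.map _
    rw [← Spec.map_comp, ← CommRingCat.ofHom_comp, ← IsScalarTower.algebraMap_eq])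

lemma toUnit_left {S : Scheme.{u}} (X : Over S) : (toUnit X).left = X.hom := by
  have h := Over.w (toUnit X)
  have h2 : (𝟙_ (Over S)).hom = 𝟙 S := rfl
  rw [h2] at h
  exact (Category.comp_id _).symm.trans h

theorem isCov_sp {Λ : Type u} [CommRing Λ] (s : Finset Λ) (hs : Ideal.span (s : Set Λ) = ⊤) :
    IsCov (fun i : s => toUnit (sp Λ (Localization.Away (i : Λ)))) := by
  intro x
  obtain ⟨f, hf, hfx⟩ : ∃ f ∈ s, f ∉ x.asIdeal := by
    by_contra hcon
    push Not at hcon
    have h1 : Ideal.span (s : Set Λ) ≤ x.asIdeal := Ideal.span_le.2 hcon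
    rw [hs, top_le_iff] at h1
    exact x.isPrime.ne_top h1
  refine ⟨⟨f, hf⟩, ?_⟩
  have ho : IsOpenImmersion (Spec.map (CommRingCat.ofHom (algebraMap Λ (Localization.Away f)))) := inferInstance
  dsimp only
  rw [toUnit_left]
  refine ⟨inferInstanceAs (Flat (Spec.map (CommRingCat.ofHom (algebraMap Λ (Localization.Away f))))),
    inferInstanceAs (LocallyOfFinitePresentation (Spec.map (CommRingCat.ofHom (algebraMap Λ (Localization.Away f))))), ?_⟩
  have h1 : Set.range (PrimeSpectrum.comap (algebraMap Λ (Localization.Away f))) = PrimeSpectrum.basicOpen f :=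
    PrimeSpectrum.localization_away_comap_range _ f
  change x ∈ Set.range (PrimeSpectrum.comap (algebraMap Λ (Localization.Away f)))
  rw [h1]
  exact hfx

/-- noetherian affine base from the complete local case (with the spreading out of `n`-splittings as a hypothesis) -/
theorem noeth_of_complete
    (Hsp : ∀ {Λ : Type u} [CommRing Λ] {T A : Over (Spec (CommRingCat.of Λ))} [GrpObj T] [IsCommMonObj T]
      [GrpObj A] [IsCommMonObj A] [IsProper A.hom] [LocallyOfFinitePresentation A.hom] (D : Dat T A)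
      (X : Over (Spec (CommRingCat.of Λ))) [IsAffine X.left] (p : X ⟶ T) [Smooth p.left] [Surjective p.left]
      [LocallyOfFinitePresentation X.hom] [IsAffineHom T.hom] (e : Γs D.E X) (_ : m D.q X e = sec p) (n : ℕ)
      (𝔭 : Ideal Λ) [𝔭.IsPrime]
      (_ : D.NS n (Over.mk (Spec.map (CommRingCat.ofHom (algebraMap Λ (Localization.AtPrime 𝔭)))))),
      ∃ f : Λ, f ∉ 𝔭 ∧ D.NS n (Over.mk (Spec.map (CommRingCat.ofHom (algebraMap Λ (Localization.Away f))))))
    (H5 : ∀ (B : Type u) [CommRing B] [IsLocalRing B] [IsNoetherianRing B]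
      [IsAdicComplete (IsLocalRing.maximalIdeal B) B] [IsAlgClosed (IsLocalRing.ResidueField B)]
      (A : Over (Spec (CommRingCat.of B))) [GrpObj A]
      [IsCommMonObj A] [Smooth A.hom] [IsProper A.hom] [GeometricallyConnected A.hom]
      (D : Dat (Red.Gm (Spec (CommRingCat.of B))) A), ∃ n, 0 < n ∧ D.NS n (𝟙_ (Over (Spec (CommRingCat.of B)))))
    (Λ : Type u) [CommRing Λ] [IsNoetherianRing Λ] (A : Over (Spec (CommRingCat.of Λ))) [GrpObj A]
    [IsCommMonObj A] [Smooth A.hom] [IsProper A.hom] [GeometricallyConnected A.hom]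
    (D : Dat (Red.Gm (Spec (CommRingCat.of Λ))) A) : ∃ n, 0 < n ∧ D.NS n (𝟙_ (Over (Spec (CommRingCat.of Λ)))) := by
  have hT : Red.IsTorus (Red.Gm (Spec (CommRingCat.of Λ))) := Groth.Agent.Sga3B.BorSpan613.isTorus_Gm _
  have haff : IsAffineHom (Red.Gm (Spec (CommRingCat.of Λ))).hom :=
    Groth.Agent.Sga3B.TorusAlgClosed.isAffineHom_of_isTorus hT
  have hsm : Smooth (Red.Gm (Spec (CommRingCat.of Λ))).hom := Groth.Agent.Sga3B.TorusAlgClosed.smooth_of_isTorus hT
  have haffT : IsAffine (Red.Gm (Spec (CommRingCat.of Λ))).left :=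
    isAffine_of_isAffineHom (Red.Gm (Spec (CommRingCat.of Λ))).hom
  obtain ⟨X, p, e, hX, hp1, hp2, he⟩ := K595.Chart.exists_chart D
  have hXf : LocallyOfFinitePresentation X.hom := by
    rw [← Over.w p]
    infer_instance
  -- the local case
  have key : ∀ (𝔭 : Ideal Λ) [𝔭.IsPrime], ∃ f : Λ, f ∉ 𝔭 ∧ ∃ n, 0 < n ∧ D.NS n (sp Λ (Localization.Away f)) := by
    intro 𝔭 h𝔭
    obtain ⟨B, i1, i2, i3, i4, i5, h3, h4, h5⟩ := exists_complete (Localization.AtPrime 𝔭)
    let _ : Algebra Λ B := ((algebraMap (Localization.AtPrime 𝔭) B).comp (algebraMap Λ (Localization.AtPrime 𝔭))).toAlgebra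
    have htow : IsScalarTower Λ (Localization.AtPrime 𝔭) B := IsScalarTower.of_algebraMap_eq fun _ => rfl
    let f := Spec.map (CommRingCat.ofHom (algebraMap Λ B))
    obtain ⟨D', hD'⟩ := K472.AbRes.exists_res_Gm f D
    have g1 : IsProper (Red.bc f A).hom := by
      change IsProper (pullback.snd A.hom f)
      infer_instance
    have g2 : Smooth (Red.bc f A).hom := by
      change Smooth (pullback.snd A.hom f)
      infer_instance
    have g3 : GeometricallyConnected (Red.bc f A).hom := by
      change GeometricallyConnected (pullback.snd A.hom f)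
      infer_instance
    obtain ⟨n, hn, hns⟩ := H5 B (Red.bc f A) D'
    rw [hD'] at hns
    have hns' : D.NS n (sp Λ B) := hns.restrict (Over.homMk (𝟙 _) (by
      change 𝟙 _ ≫ (𝟙 _ ≫ f) = f
      rw [Category.id_comp, Category.id_comp]))
    have hff : Module.FaithfullyFlat (Localization.AtPrime 𝔭) B := Module.FaithfullyFlat.of_flat_of_isLocalHom
    have k1 : Flat (spMap Λ (Localization.AtPrime 𝔭) B).left := by
      change Flat (Spec.map (CommRingCat.ofHom (algebraMap (Localization.AtPrime 𝔭) B)))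
      rw [Flat.SpecMap_iff]
      exact RingHom.flat_algebraMap_iff.2 inferInstance
    have k2 : Surjective (spMap Λ (Localization.AtPrime 𝔭) B).left := by
      refine ⟨?_⟩
      change Function.Surjective (PrimeSpectrum.comap (algebraMap (Localization.AtPrime 𝔭) B))
      exact PrimeSpectrum.comap_surjective_of_faithfullyFlat
    have k3 : QuasiCompact (spMap Λ (Localization.AtPrime 𝔭) B).left :=
      inferInstanceAs (QuasiCompact (Spec.map (CommRingCat.ofHom (algebraMap (Localization.AtPrime 𝔭) B))))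
    have hns2 : D.NS n (sp Λ (Localization.AtPrime 𝔭)) :=
      Dat.ns_of_fpqc hT p e he (spMap Λ (Localization.AtPrime 𝔭) B) hns'
    obtain ⟨g, hg, hgn⟩ := Hsp D X p e he n 𝔭 hns2
    exact ⟨g, hg, n, hn, hgn⟩
  -- quasi-compactness
  let P : Set Λ := {f | ∃ n, 0 < n ∧ D.NS n (sp Λ (Localization.Away f))}
  have hP : Ideal.span P = ⊤ := by
    by_contra hcon
    obtain ⟨𝔭, h𝔭, hle⟩ := Ideal.exists_le_maximal _ hcon
    obtain ⟨f, hf, hn⟩ := key 𝔭
    exact hf (hle (Ideal.subset_span hn))
  obtain ⟨s, hsP, hs⟩ := (Ideal.span_eq_top_iff_finite P).1 hP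
  have hsP' : ∀ f : Λ, ∃ n, f ∈ s → 0 < n ∧ D.NS n (sp Λ (Localization.Away f)) := by
    intro f
    by_cases hf : f ∈ s
    · obtain ⟨n, hn⟩ := hsP hf
      exact ⟨n, fun _ => hn⟩
    · exact ⟨0, fun h => absurd h hf⟩
  choose n hn' using hsP'
  have hn0 : ∀ f, f ∈ s → 0 < n f := fun f hf => (hn' f hf).1
  have hn : ∀ {f}, f ∈ s → D.NS (n f) (sp Λ (Localization.Away f)) := fun hf => (hn' _ hf).2
  refine ⟨∏ f ∈ s, n f, Finset.prod_pos fun f hf => hn0 f hf, ?_⟩
  refine Dat.NS.of_cov hT (isCov_sp s hs) fun i => ?_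
  exact (hn i.2).of_dvd (Finset.dvd_prod_of_mem n i.2)

end K666.LocNoeth
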